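import Groth.Agent.S2690
import Groth.Agent.S9413
import Groth.Agent.IntBC.Separable
import Groth.Agent.Hensel.HenselizationNormal
import Groth.Agent.FlatLoc6.NormalFibre
import Mathlib

/-!
Geometric normality can be tested on finite purely inseparable extensions (no Noetherian hypothesis).
-/

set_option autoImplicit false
set_option backward.isDefEq.respectTransparency false
universe u

open scoped TensorProduct

namespace Groth.Agent.GeomNormalInsep

/-- Normal rings descend along faithfully flat maps. -/
theorem isNormalRing_descend (R S : Type u) [CommRing R] [CommRing S] [Algebra R S] [Module.FaithfullyFlat R S]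
    (h : EGA4.IsNormalRing S) : EGA4.IsNormalRing R := by
  intro p hp
  obtain ⟨⟨q, hq⟩, hqp⟩ := PrimeSpectrum.comap_surjective_of_faithfullyFlat (A := R) (B := S) ⟨p, hp⟩
  obtain rfl : q.comap (algebraMap R S) = p := congrArg PrimeSpectrum.asIdeal hqp
  obtain ⟨hd, hi⟩ := h q
  haveI : q.LiesOver (q.comap (algebraMap R S)) := ⟨rfl⟩
  letI := Localization.AtPrime.algebraOfLiesOver (q.comap (algebraMap R S)) q
  haveI : IsLocalHom (algebraMap (Localization.AtPrime (q.comap (algebraMap R S))) (Localization.AtPrime q)) :=
    Localization.isLocalHom_localRingHom _ _ _ _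
  haveI := Module.FaithfullyFlat.of_flat_of_isLocalHom
    (A := Localization.AtPrime (q.comap (algebraMap R S))) (B := Localization.AtPrime q)
  exact Hensel.isIntegrallyClosed_of_faithfullyFlat _ (Localization.AtPrime q)

open IntermediateField in
/-- Finite extensions become separable after a finite purely inseparable one. -/
theorem exists_insep_sep (k K : Type u) [Field k] [Field K] [Algebra k K] [Module.Finite k K] :
    ∃ (N : Type u) (_ : Field N) (_ : Algebra k N) (_ : Algebra K N) (_ : IsScalarTower k K N)
      (P : IntermediateField k N),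
      Module.Finite k P ∧ IsPurelyInseparable k P ∧ Algebra.IsSeparable P N := by
  classical
  let N := IntermediateField.normalClosure k K (AlgebraicClosure K)
  refine ⟨N, inferInstance, inferInstance, inferInstance, inferInstance,
    fixedField (⊤ : Subgroup Gal(↥N/k)), inferInstance, ?_, ?_⟩
  · rw [isPurelyInseparable_iff_natSepDegree_eq_one]
    intro x
    rw [← minpoly.algebraMap_eq (algebraMap (fixedField (⊤ : Subgroup Gal(↥N/k))) N).injective x]
    show (minpoly k (x : N)).natSepDegree = 1
    have hsp := Normal.splits (F := k) (K := N) inferInstance (x : N)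
    rw [Polynomial.natSepDegree_eq_of_splits (E := N) _ hsp, Finset.card_eq_one]
    refine ⟨(x : N), Finset.ext fun y => ?_⟩
    rw [Multiset.mem_toFinset, Polynomial.mem_aroots, Finset.mem_singleton]
    constructor
    · intro hy
      obtain ⟨σ, hσ⟩ := isConjRoot_iff_exists_algEquiv.1
        (isConjRoot_of_aeval_eq_zero (Algebra.IsIntegral.isIntegral (x : N)) hy.2 : IsConjRoot k (x : N) y).symm
      rw [← hσ]
      exact x.2 ⟨σ, trivial⟩
    · rintro rfl
      exact ⟨minpoly.ne_zero (Algebra.IsIntegral.isIntegral (x : N)), minpoly.aeval k _⟩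
  · exact inferInstanceAs (Algebra.IsSeparable (FixedPoints.subfield (⊤ : Subgroup Gal(↥N/k)) N) N)

theorem descend_of_sep (k A K P N : Type u) [Field k] [CommRing A] [Algebra k A] [Field K] [Field P] [Field N]
    [Algebra k K] [Algebra k P] [Algebra k N] [Algebra P N] [Algebra K N] [IsScalarTower k P N]
    [IsScalarTower k K N] [Algebra.IsSeparable P N] (h : EGA4.IsNormalRing (P ⊗[k] A)) :
    EGA4.IsNormalRing (K ⊗[k] A) := by
  haveI : Algebra.IsGeometricallyReduced P N := by
    rw [Algebra.isGeometricallyReduced_field_iff]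
    exact GrpSchLib.isReduced_field_tensor P N (AlgebraicClosure P)
  have h1 : EGA4.IsNormalRing (N ⊗[P] (P ⊗[k] A)) := S2690.result P (P ⊗[k] A) N h
  have h2 : EGA4.IsNormalRing (N ⊗[k] A) :=
    FlatLoc6.isNormalRing_of_ringEquiv (Algebra.TensorProduct.cancelBaseChange k P N N A).toRingEquiv h1
  have h3 : EGA4.IsNormalRing ((K ⊗[k] A) ⊗[K] N) :=
    FlatLoc6.isNormalRing_of_ringEquiv ((Algebra.TensorProduct.comm K (K ⊗[k] A) N).toRingEquiv.trans
      (Algebra.TensorProduct.cancelBaseChange k K N N A).toRingEquiv).symm h2
  exact isNormalRing_descend (K ⊗[k] A) ((K ⊗[k] A) ⊗[K] N) h3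

/-- The criterion. -/
theorem isGeomNormal_of_insep (k A : Type u) [Field k] [CommRing A] [Algebra k A]
    (h : ∀ (k' : Type u) [Field k'] [Algebra k k'], Module.Finite k k' → IsPurelyInseparable k k' →
      EGA4.IsNormalRing (k' ⊗[k] A)) : EGA4.IsGeomNormal k A := by
  intro K _ _ hK
  obtain ⟨N, _, _, _, _, P, hP, hPi, hPs⟩ := exists_insep_sep k K
  exact descend_of_sep k A K P N (h P hP hPi)

/-- Base change to any field. -/
theorem isNormalRing_tensor_of_insep (k A : Type u) [Field k] [CommRing A] [Algebra k A]
    (h : ∀ (k' : Type u) [Field k'] [Algebra k k'], Module.Finite k k' → IsPurelyInseparable k k' →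
      EGA4.IsNormalRing (k' ⊗[k] A))
    (K : Type u) [Field K] [Algebra k K] : EGA4.IsNormalRing (K ⊗[k] A) := by
  refine FlatLoc6.isNormalRing_of_ringEquiv (Algebra.TensorProduct.comm k A K).toRingEquiv
    (S9413.result k A K (isGeomNormal_of_insep k A h) ?_)
  exact fun p _ => ⟨inferInstance, inferInstance⟩

end Groth.Agent.GeomNormalInsep
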