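import Groth.Agent.GeomNormalInsep.Basic
import Groth.Agent.SmoothReg.GeomRegularAt

/-!
Normality at the points of the base change of a scheme over a field.
-/

set_option autoImplicit false
set_option backward.isDefEq.respectTransparency false
set_option backward.isDefEq.respectTransparency.types false
universe u

open CategoryTheory CategoryTheory.Limits AlgebraicGeometry
open scoped TensorProduct

attribute [local instance] Curv2.stalkAlgebra

namespace Groth.Agent.GeomNormalInsep

open GeomField

/-- A normal domain. -/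
def NorAt (R : Type u) [CommRing R] : Prop := IsDomain R ∧ IsIntegrallyClosed R

theorem NorAt.of_ringEquiv {R S : Type u} [CommRing R] [CommRing S] (e : R ≃+* S) (h : NorAt R) : NorAt S := by
  obtain ⟨hd, hi⟩ := h
  exact ⟨e.symm.toMulEquiv.isDomain, IsIntegrallyClosed.of_equiv e⟩

theorem norAt_congr {R S : Type u} [CommRing R] [CommRing S] (e : R ≃+* S) : NorAt R ↔ NorAt S :=
  ⟨NorAt.of_ringEquiv e, NorAt.of_ringEquiv e.symm⟩

theorem norAt_localization {A : Type u} [CommRing A] (M : Submonoid A) (C : Type u) [CommRing C] [Algebra A C]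
    [IsLocalization M C] (P : Ideal C) [P.IsPrime] :
    NorAt (Localization.AtPrime P) ↔ NorAt (Localization.AtPrime (P.comap (algebraMap A C))) := by
  haveI : IsLocalization.AtPrime (Localization.AtPrime P) (P.comap (algebraMap A C)) :=
    IsLocalization.isLocalization_isLocalization_atPrime_isLocalization M (Localization.AtPrime P) P
  exact norAt_congr (IsLocalization.algEquiv (P.comap (algebraMap A C)).primeCompl
    (Localization.AtPrime P) (Localization.AtPrime (P.comap (algebraMap A C)))).toRingEquiv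

variable {k : Type u} [Field k]

theorem norAt_tensor_localization {R A K : Type u} [CommRing R] [CommRing A] [Field K]
    [Algebra k R] [Algebra k A] [Algebra k K] [Algebra R A] [IsScalarTower k R A] (M : Submonoid R)
    [IsLocalization M A] (q : Ideal (A ⊗[k] K)) [q.IsPrime] :
    NorAt (Localization.AtPrime q) ↔
      NorAt (Localization.AtPrime
        (q.comap (Algebra.TensorProduct.map (IsScalarTower.toAlgHom k R A) (AlgHom.id k K)))) := by
  letI : Algebra (R ⊗[k] K) (A ⊗[k] K) :=
    (Algebra.TensorProduct.map (IsScalarTower.toAlgHom k R A) (AlgHom.id k K)).toRingHom.toAlgebra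
  haveI : IsScalarTower R (R ⊗[k] K) (A ⊗[k] K) := .of_algebraMap_eq fun r => by
    show algebraMap R A r ⊗ₜ[k] (1 : K) = Algebra.TensorProduct.map _ _ (r ⊗ₜ[k] (1 : K))
    rw [Algebra.TensorProduct.map_tmul, map_one]
    rfl
  haveI : IsLocalization (Algebra.algebraMapSubmonoid (R ⊗[k] K) M) (A ⊗[k] K) :=
    IsLocalization.tensorProduct_tensorProduct k K M A (RingHom.ext fun z => by
      show Algebra.TensorProduct.map _ _ ((1 : R) ⊗ₜ[k] z) = (1 : A) ⊗ₜ[k] z
      rw [Algebra.TensorProduct.map_tmul, map_one]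
      rfl)
  exact norAt_localization (Algebra.algebraMapSubmonoid (R ⊗[k] K) M) (A ⊗[k] K) q

variable {X : Scheme.{u}} [X.Over (Spec (CommRingCat.of k))]

theorem norAt_stalk_bcEmb_iff (c : Chart k X) (K : Type u) [Field K] [Algebra k K]
    (Q : Spec (CommRingCat.of (c.R ⊗[k] K))) :
    NorAt ((Curv2.bc k X K).presheaf.stalk (c.bcEmb K Q)) ↔
      NorAt (Localization.AtPrime (PrimeSpectrum.asIdeal (R := c.R ⊗[k] K) Q)) :=
  norAt_congr ((asIso ((c.bcEmb K).stalkMap Q)).commRingCatIsoToRingEquiv.trans
    (IsLocalization.algEquiv (PrimeSpectrum.asIdeal (R := c.R ⊗[k] K) Q).primeCompl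
      ((Spec.structureSheaf (c.R ⊗[k] K)).presheaf.stalk Q)
      (Localization.AtPrime (PrimeSpectrum.asIdeal (R := c.R ⊗[k] K) Q))).toRingEquiv)

theorem isNormalRing_comm {A K : Type u} [CommRing A] [Field K] [Algebra k A] [Algebra k K] :
    EGA4.IsNormalRing (A ⊗[k] K) ↔ EGA4.IsNormalRing (K ⊗[k] A) :=
  ⟨FlatLoc6.isNormalRing_of_ringEquiv (Algebra.TensorProduct.comm k A K).toRingEquiv,
    FlatLoc6.isNormalRing_of_ringEquiv (Algebra.TensorProduct.comm k K A).toRingEquiv⟩

/-- Normality of the base change of the local ring gives normality at the points above. -/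
theorem norAt_stalk_of_isNormalRing (x : X) (K : Type u) [Field K] [Algebra k K]
    (h : EGA4.IsNormalRing (K ⊗[k] X.presheaf.stalk x)) (x' : Curv2.bc k X K)
    (hx : Curv2.bcFst k X K x' = x) : NorAt ((Curv2.bc k X K).presheaf.stalk x') := by
  rw [← isNormalRing_comm] at h
  obtain ⟨c, P, rfl⟩ := exists_chart (k := k) x
  obtain ⟨_, _, _⟩ := c.exists_stalk_algebra P
  obtain ⟨Q, rfl⟩ := c.exists_bcEmb_eq K P x' hx
  haveI : (PrimeSpectrum.asIdeal (R := c.R ⊗[k] K) Q).IsPrime := Q.2
  rw [norAt_stalk_bcEmb_iff]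
  obtain ⟨q, _, hq⟩ := SmoothReg.exists_prime_comap (k := k) (A := X.presheaf.stalk (c.emb P))
    (PrimeSpectrum.asIdeal (R := c.R) P) (PrimeSpectrum.asIdeal (R := c.R ⊗[k] K) Q)
    ((c.bcEmb_fst_eq_iff K P Q).1 hx)
  have := (norAt_tensor_localization (k := k) (PrimeSpectrum.asIdeal (R := c.R) P).primeCompl q).1 (h q)
  have key : ∀ (p : Ideal (c.R ⊗[k] K)) [p.IsPrime], p = PrimeSpectrum.asIdeal (R := c.R ⊗[k] K) Q →
      NorAt (Localization.AtPrime p) →
      NorAt (Localization.AtPrime (PrimeSpectrum.asIdeal (R := c.R ⊗[k] K) Q)) := by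
    intro p _ h hp; subst h; exact hp
  exact key _ hq this

/-- For a finite extension, normality at the points above gives normality of the base change of the
local ring. -/
theorem isNormalRing_of_norAt_stalk (x : X) (K : Type u) [Field K] [Algebra k K] [Module.Finite k K]
    (h : ∀ x' : Curv2.bc k X K, Curv2.bcFst k X K x' = x → NorAt ((Curv2.bc k X K).presheaf.stalk x')) :
    EGA4.IsNormalRing (K ⊗[k] X.presheaf.stalk x) := by
  rw [← isNormalRing_comm]
  obtain ⟨c, P, rfl⟩ := exists_chart (k := k) x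
  obtain ⟨_, _, _⟩ := c.exists_stalk_algebra P
  intro q _
  obtain ⟨m, hm, hqm⟩ := Ideal.exists_le_maximal q (Ideal.IsPrime.ne_top ‹_›)
  haveI := hm.isPrime
  let A := X.presheaf.stalk (c.emb P)
  haveI : Algebra.IsIntegral A (A ⊗[k] K) := Algebra.IsIntegral.of_finite _ _
  have hmA : m.under A = IsLocalRing.maximalIdeal A :=
    IsLocalRing.eq_maximalIdeal (Ideal.isMaximal_comap_of_isIntegral_of_isMaximal m)
  let φ := Algebra.TensorProduct.map (IsScalarTower.toAlgHom k c.R A) (AlgHom.id k K)
  haveI : (m.comap φ).IsPrime := Ideal.comap_isPrime _ _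
  have hover : (m.comap φ).under c.R = PrimeSpectrum.asIdeal (R := c.R) P := by
    have : (m.under A).comap (algebraMap c.R A) = PrimeSpectrum.asIdeal (R := c.R) P := by
      rw [hmA]; exact IsLocalization.AtPrime.comap_maximalIdeal A _
    rw [← this]
    ext r
    show φ (r ⊗ₜ[k] (1 : K)) ∈ m ↔ algebraMap c.R A r ⊗ₜ[k] (1 : K) ∈ m
    rw [Algebra.TensorProduct.map_tmul, map_one]
    rfl
  have hz := (norAt_stalk_bcEmb_iff c K ⟨m.comap φ, inferInstance⟩).1
    (h _ ((c.bcEmb_fst_eq_iff K P ⟨m.comap φ, inferInstance⟩).2 hover))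
  obtain ⟨_, _⟩ : NorAt (Localization.AtPrime m) :=
    (norAt_tensor_localization (k := k) (PrimeSpectrum.asIdeal (R := c.R) P).primeCompl m).2 hz
  have hd : Disjoint (m.primeCompl : Set (A ⊗[k] K)) (q : Set _) :=
    Set.disjoint_left.2 fun y hy hy' => hy (hqm hy')
  haveI := IsLocalization.isPrime_of_isPrime_disjoint m.primeCompl (Localization.AtPrime m) q ‹_› hd
  have h2 : NorAt (Localization.AtPrime (q.map (algebraMap _ (Localization.AtPrime m)))) :=
    ⟨IsLocalization.isDomain_localization
        (Ideal.primeCompl_le_nonZeroDivisors (q.map (algebraMap _ (Localization.AtPrime m)))),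
      isIntegrallyClosed_of_isLocalization _ (q.map (algebraMap _ (Localization.AtPrime m))).primeCompl
        (Ideal.primeCompl_le_nonZeroDivisors _)⟩
  have h3 := (norAt_localization m.primeCompl (Localization.AtPrime m)
    (q.map (algebraMap _ (Localization.AtPrime m)))).1 h2
  have key : ∀ (p : Ideal (A ⊗[k] K)) [p.IsPrime], p = q → NorAt (Localization.AtPrime p) →
      NorAt (Localization.AtPrime q) := by
    intro p _ h hp; subst h; exact hp
  exact key _ (IsLocalization.under_map_of_isPrime_disjoint m.primeCompl _ ‹_› hd) h3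

/-- Normal scheme from normal base changes of local rings. -/
theorem isNormalScheme_bc (K : Type u) [Field K] [Algebra k K]
    (h : ∀ x : X, EGA4.IsNormalRing (K ⊗[k] X.presheaf.stalk x)) : Pi1.IsNormalScheme (Curv2.bc k X K) :=
  fun x' => norAt_stalk_of_isNormalRing _ K (h _) x' rfl

end Groth.Agent.GeomNormalInsep
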